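import Groth.Agent.CechShRes.Derived
import Groth.Agent.W7AffBC.Basic

/-!
Base change of the relative Čech complex.
-/

set_option autoImplicit false
set_option backward.isDefEq.respectTransparency false
set_option backward.isDefEq.respectTransparency.types false
set_option linter.style.haveILetI false
set_option maxHeartbeats 800000

universe u

open CategoryTheory CategoryTheory.Limits AlgebraicGeometry Opposite TopologicalSpace
open Groth.Agent.QC (res res_res res_self app_res res_smul)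
open Groth.Agent.RelTilde

attribute [local instance] HasDerivedCategory.standard Abelian.hasFiniteBiproducts

noncomputable section

namespace Groth.Agent.CechShRes

theorem image_mono {X : Scheme.{u}} (W : X.Opens) {U V : X.Opens} (h : V ≤ U) :
    W.ι ''ᵁ (W.ι ⁻¹ᵁ V) ≤ W.ι ''ᵁ (W.ι ⁻¹ᵁ U) :=
  Scheme.Hom.image_mono _ (Scheme.Hom.preimage_mono _ h)

theorem appLE_pushRestr {X S : Scheme.{u}} (f : X ⟶ S) (W : X.Opens) (U : S.Opens) (x : Γ(S, U)) :
    (W.ι.appIso (W.ι ⁻¹ᵁ (f ⁻¹ᵁ U))).inv (W.ι.app (f ⁻¹ᵁ U) (f.app U x)) =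
      f.appLE U (W.ι ''ᵁ (W.ι ⁻¹ᵁ (f ⁻¹ᵁ U))) (Scheme.Hom.image_preimage_le _ _) x := by
  have h := ConcreteCategory.congr_hom (W.ι.app_appIso_inv (f ⁻¹ᵁ U)) (f.app U x)
  simp only [CategoryTheory.comp_apply] at h
  exact h

theorem isAffineOpen_bc {X S X' S' : Scheme.{u}} {f : X ⟶ S} {g : S' ⟶ S} {g' : X' ⟶ X} {f' : X' ⟶ S'}
    (h : IsPullback g' f' f g) {U : S.Opens} {V : S'.Opens} {A : X.Opens} (hU : IsAffineOpen U)
    (hV : IsAffineOpen V) (hA : IsAffineOpen A) (hVU : V ≤ g ⁻¹ᵁ U) (hAU : A ≤ f ⁻¹ᵁ U) :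
    IsAffineOpen (g' ⁻¹ᵁ A ⊓ f' ⁻¹ᵁ V) :=
  haveI : IsAffine _ := hU
  haveI : IsAffine _ := hV
  haveI : IsAffine _ := hA
  .of_isIso (Scheme.Hom.isPullback_resLE h hVU hAU rfl).isoPullback.hom

section Pull

variable {X X' : Scheme.{u}} (g : X' ⟶ X) {F : X.Modules} {G : X'.Modules}
  (φ : F ⟶ (Scheme.Modules.pushforward g).obj G)

theorem le_pullRestr {W : X.Opens} {W' : X'.Opens} (hle : W' ≤ g ⁻¹ᵁ W) (V : X.Opens) :
    W'.ι ''ᵁ (W'.ι ⁻¹ᵁ (g ⁻¹ᵁ V)) ≤ g ⁻¹ᵁ (W.ι ''ᵁ (W.ι ⁻¹ᵁ V)) := by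
  rw [Scheme.Hom.image_preimage_eq_opensRange_inf, Scheme.Hom.image_preimage_eq_opensRange_inf,
    Scheme.Opens.opensRange_ι, Scheme.Opens.opensRange_ι, Scheme.Hom.preimage_inf]
  exact inf_le_inf_right _ hle

/-- A map to a direct image, restricted to opens. -/
def pullRestr {W : X.Opens} {W' : X'.Opens} (hle : W' ≤ g ⁻¹ᵁ W) :
    (CechOX.pushRestr W).obj F ⟶ (Scheme.Modules.pushforward g).obj ((CechOX.pushRestr W').obj G) :=
  ⟨PresheafOfModules.homMk
    (M₁ := ((CechOX.pushRestr W).obj F).val)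
    (M₂ := ((Scheme.Modules.pushforward g).obj ((CechOX.pushRestr W').obj G)).val)
    { app := fun V => AddCommGrpCat.ofHom (AddMonoidHom.mk'
        (fun (m : Γ(F, W.ι ''ᵁ (W.ι ⁻¹ᵁ V.unop))) =>
          (res G (le_pullRestr g hle V.unop) (φ.app (W.ι ''ᵁ (W.ι ⁻¹ᵁ V.unop)) m)))
        (fun a b => by rw [map_add, map_add]))
      naturality := fun V V' i => by
        ext m
        show res G (le_pullRestr g hle V'.unop) (φ.app _ (res F (CechShRes.image_mono W i.unop.le) m)) =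
          res G (CechShRes.image_mono W' (g.preimage_mono i.unop.le)) (res G (le_pullRestr g hle V.unop) (φ.app _ m))
        rw [← app_res φ]
        show res G _ (res G (g.preimage_mono (CechShRes.image_mono W i.unop.le)) _) = _
        rw [res_res, res_res] }
    fun V r m => by
      obtain ⟨V⟩ := V
      change ↑(Γ(X, V)) at r
      change res G (le_pullRestr g hle V) (φ.app (W.ι ''ᵁ (W.ι ⁻¹ᵁ V))
          (((W.ι.appIso (W.ι ⁻¹ᵁ V)).inv (W.ι.app V r)) • (show ↑Γ(F, W.ι ''ᵁ (W.ι ⁻¹ᵁ V)) from m))) =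
        ((W'.ι.appIso (W'.ι ⁻¹ᵁ (g ⁻¹ᵁ V))).inv (W'.ι.app (g ⁻¹ᵁ V) (g.app V r))) •
          res G (le_pullRestr g hle V) (φ.app (W.ι ''ᵁ (W.ι ⁻¹ᵁ V)) (show ↑Γ(F, W.ι ''ᵁ (W.ι ⁻¹ᵁ V)) from m))
      rw [Scheme.Modules.Hom.app_smul]
      refine (res_smul G _ _ _).trans ?_
      congr 1
      have h1 := ConcreteCategory.congr_hom (W.ι.app_appIso_inv V) r
      have h2 := ConcreteCategory.congr_hom (W'.ι.app_appIso_inv (g ⁻¹ᵁ V)) (g.app V r)
      simp only [CategoryTheory.comp_apply] at h1 h2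
      rw [h1, h2]
      have h3 := ConcreteCategory.congr_hom (g.naturality
        (homOfLE (Scheme.Hom.image_preimage_le W.ι V)).op) r
      simp only [CategoryTheory.comp_apply] at h3
      refine (congrArg (QC.resO X' (le_pullRestr g hle V)) h3).trans ?_
      exact QC.resO_resO _ _ _⟩

theorem pullRestr_app {W : X.Opens} {W' : X'.Opens} (hle : W' ≤ g ⁻¹ᵁ W) (V : X.Opens)
    (m : Γ(F, W.ι ''ᵁ (W.ι ⁻¹ᵁ V))) :
    (pullRestr g φ hle).app V m = res G (le_pullRestr g hle V) (φ.app _ m) := rfl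

theorem pullRestr_nat {W₁ W₂ : X.Opens} {W₁' W₂' : X'.Opens} (h₁ : W₁' ≤ g ⁻¹ᵁ W₁) (h₂ : W₂' ≤ g ⁻¹ᵁ W₂)
    (h : W₂ ≤ W₁) (h' : W₂' ≤ W₁') :
    CechOX.pushRestrMapApp h F ≫ pullRestr g φ h₂ =
      pullRestr g φ h₁ ≫ (Scheme.Modules.pushforward g).map (CechOX.pushRestrMapApp h' G) := by
  refine Scheme.Modules.hom_ext _ _ fun V => ?_
  ext m
  show res G (le_pullRestr g h₂ V) (φ.app _ (res F (CechOX.image_preimage_mono h V) m)) =
    res G (CechOX.image_preimage_mono h' (g ⁻¹ᵁ V)) (res G (le_pullRestr g h₁ V) (φ.app _ m))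
  rw [← app_res φ]
  show res G _ (res G (g.preimage_mono (CechOX.image_preimage_mono h V)) _) = _
  rw [res_res, res_res]

end Pull

theorem isIso_of_pi {D : Type*} [Category D] [Preadditive D] [HasFiniteBiproducts D]
    {X Y : Scheme.{u}} {κ : Type u} [Finite κ] (P : X.Modules ⥤ D) (Q : Y.Modules ⥤ D) [P.Additive] [Q.Additive]
    (T : κ → X.Modules) (T' : κ → Y.Modules) (φ : P.obj (∏ᶜ T) ⟶ Q.obj (∏ᶜ T')) (e : ∀ a, P.obj (T a) ⟶ Q.obj (T' a))
    [∀ a, IsIso (e a)] (h : ∀ a, φ ≫ Q.map (Pi.π T' a) = P.map (Pi.π T a) ≫ e a) : IsIso φ := by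
  haveI := Fintype.ofFinite κ
  classical
  haveI : PreservesFiniteProducts P := by
    haveI := Functor.preservesFiniteBiproductsOfAdditive P
    exact ⟨fun n => preservesProductsOfShape_of_preservesBiproductsOfShape P⟩
  haveI : PreservesFiniteProducts Q := by
    haveI := Functor.preservesFiniteBiproductsOfAdditive Q
    exact ⟨fun n => preservesProductsOfShape_of_preservesBiproductsOfShape Q⟩
  have : φ = (PreservesProduct.iso P T).hom ≫ Limits.Pi.map e ≫ (PreservesProduct.iso Q T').inv := by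
    rw [← Category.assoc, Iso.eq_comp_inv]
    refine Pi.hom_ext _ _ fun a => ?_
    simp [h a]
  rw [this]
  infer_instance

section Main

variable {X S X' S' : Scheme.{u}} {f : X ⟶ S} {g : S' ⟶ S} {g' : X' ⟶ X} {f' : X' ⟶ S'}
  (h : IsPullback g' f' f g) (F : X.Modules) {ι : Type u} (𝒰 : ι → X.Opens)

/-- the pulled back module -/
abbrev pullF : X'.Modules := (Scheme.Modules.pullback g').obj F

/-- the pulled back family -/
abbrev pullU : ι → X'.Opens := fun i => g' ⁻¹ᵁ (𝒰 i)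

theorem pullU_le {n : ℕ} (a : Fin (n + 1) → ι) :
    (∏ᶜ (pullU (g' := g') 𝒰 ∘ a) : X'.Opens) ≤ g' ⁻¹ᵁ (∏ᶜ (𝒰 ∘ a)) := by
  intro x hx
  have h1 : g' x ∈ ((⨅ k, 𝒰 (a k) : X.Opens) : Set X) := by
    rw [← Finset.inf_univ_eq_iInf, Opens.coe_finset_inf, Finset.inf_set_eq_iInter]
    simp only [Finset.mem_univ, Set.iInter_true, Set.mem_iInter]
    exact fun k => (leOfHom (Pi.π (pullU (g' := g') 𝒰 ∘ a) k)) hx
  have e : (∏ᶜ (𝒰 ∘ a)) = ⨅ k, 𝒰 (a k) := SiteCoh.tupleProd_eq_iInf 𝒰 a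
  show g' x ∈ ((∏ᶜ (𝒰 ∘ a) : X.Opens) : Set X)
  rw [e]
  exact h1

/-- transfer of the direct image along the square -/
abbrev sq (h : IsPullback g' f' f g) : Scheme.Modules.pushforward g' ⋙ Scheme.Modules.pushforward f ≅
    Scheme.Modules.pushforward f' ⋙ Scheme.Modules.pushforward g :=
  Scheme.Modules.pushforwardComp g' f ≪≫ Scheme.Modules.pushforwardCongr h.w ≪≫
    (Scheme.Modules.pushforwardComp f' g).symm

/-- one term of the comparison -/
def thetaW {W : X.Opens} {W' : X'.Opens} (hle : W' ≤ g' ⁻¹ᵁ W) :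
    (Scheme.Modules.pushforward f).obj ((CechOX.pushRestr W).obj F) ⟶
      (Scheme.Modules.pushforward g).obj
        ((Scheme.Modules.pushforward f').obj ((CechOX.pushRestr W').obj (pullF (g' := g') F))) :=
  (Scheme.Modules.pushforward f).map
      (pullRestr g' ((Scheme.Modules.pullbackPushforwardAdjunction g').unit.app F) hle) ≫
    (sq h).hom.app _

theorem thetaW_app {W : X.Opens} {W' : X'.Opens} (hle : W' ≤ g' ⁻¹ᵁ W) (U : S.Opens)
    (m : Γ(F, W.ι ''ᵁ (W.ι ⁻¹ᵁ (f ⁻¹ᵁ U))))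
    (e : W'.ι ''ᵁ (W'.ι ⁻¹ᵁ (f' ⁻¹ᵁ (g ⁻¹ᵁ U))) ≤ g' ⁻¹ᵁ (W.ι ''ᵁ (W.ι ⁻¹ᵁ (f ⁻¹ᵁ U)))) :
    (thetaW h F hle).app U m = res (pullF (g' := g') F) e
      (((Scheme.Modules.pullbackPushforwardAdjunction g').unit.app F).app _ m) := by
  have e1 : W'.ι ''ᵁ (W'.ι ⁻¹ᵁ (f' ⁻¹ᵁ (g ⁻¹ᵁ U))) ≤ W'.ι ''ᵁ (W'.ι ⁻¹ᵁ (g' ⁻¹ᵁ (f ⁻¹ᵁ U))) := by
    refine image_mono W' (le_of_eq ?_)
    rw [← Scheme.Hom.comp_preimage, ← Scheme.Hom.comp_preimage, h.w]
  show res (pullF (g' := g') F) e1 (res (pullF (g' := g') F) (le_pullRestr g' hle (f ⁻¹ᵁ U))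
    (((Scheme.Modules.pullbackPushforwardAdjunction g').unit.app F).app _ m)) = _
  exact res_res _ _ _ _

theorem isIso_thetaW (hF : Coh.IsQCoh F) (W : X.Opens) [IsAffineHom (W.ι ≫ f)]
    (hQ : Coh.IsQCoh ((Scheme.Modules.pushforward f).obj ((CechOX.pushRestr W).obj F)))
    {W' : X'.Opens} (hW' : W' = g' ⁻¹ᵁ W)
    (hQ' : Coh.IsQCoh ((Scheme.Modules.pushforward f').obj ((CechOX.pushRestr W').obj (pullF (g' := g') F)))) :
    IsIso (((Scheme.Modules.pullbackPushforwardAdjunction g).homEquiv _ _).symm (thetaW h F hW'.le)) := by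
  refine isIso_adjunct g (thetaW h F hW'.le) hQ hQ' fun x => ?_
  obtain ⟨U, hU, hxU, -⟩ := exists_isAffineOpen_mem_and_subset (x := g x) (U := (⊤ : S.Opens)) trivial
  obtain ⟨V, hV, hxV, hVU⟩ := exists_isAffineOpen_mem_and_subset (x := x) (U := g ⁻¹ᵁ U) hxU
  refine ⟨U, hU, V, hV, hVU, hxV, ?_⟩
  let A : X.Opens := W.ι ''ᵁ (W.ι ⁻¹ᵁ (f ⁻¹ᵁ U))
  let B : X'.Opens := W'.ι ''ᵁ (W'.ι ⁻¹ᵁ (f' ⁻¹ᵁ V))
  have hA : IsAffineOpen A := (hU.preimage (W.ι ≫ f)).image_of_isOpenImmersion W.ι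
  have hAU : A ≤ f ⁻¹ᵁ U := Scheme.Hom.image_preimage_le _ _
  have hBV : B ≤ f' ⁻¹ᵁ V := Scheme.Hom.image_preimage_le _ _
  have hle : B ≤ g' ⁻¹ᵁ A := by
    refine le_trans ?_ (le_pullRestr g' hW'.le (f ⁻¹ᵁ U))
    refine Scheme.Hom.image_mono _ (Scheme.Hom.preimage_mono _ ?_)
    rw [← Scheme.Hom.comp_preimage, h.w, Scheme.Hom.comp_preimage]
    exact f'.preimage_mono hVU
  have hUY : B = g' ⁻¹ᵁ A ⊓ f' ⁻¹ᵁ V := by
    refine le_antisymm (le_inf hle hBV) ?_
    simp only [A, B, Scheme.Hom.image_preimage_eq_opensRange_inf, Scheme.Opens.opensRange_ι, hW',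
      Scheme.Hom.preimage_inf]
    exact inf_le_inf_right _ inf_le_left
  have hB : IsAffineOpen B := hUY ▸ isAffineOpen_bc h hU hV hA hVU hAU
  have H : IsPushout (f.appLE U A hAU) (g.appLE U V hVU) (g'.appLE A B hle) (f'.appLE V B hBV) :=
    (isIso_pushoutSection_iff h hVU hAU hUY).1 (isIso_pushoutSection_of_isAffineOpen h hVU hAU hUY hU hV hA)
  have hbc := isBC_unit g' (L := F) hF hA hB hle
  intro Q _ _ w
  let r : Γ(F, A) → Γ(pullF (g' := g') F, B) :=
    fun m => resθ g' ((Scheme.Modules.pullbackPushforwardAdjunction g').unit.app F) hle m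
  have e0 : W'.ι ''ᵁ (W'.ι ⁻¹ᵁ (f' ⁻¹ᵁ (g ⁻¹ᵁ U))) ≤ g' ⁻¹ᵁ A := by
    refine le_trans (le_of_eq ?_) (le_pullRestr g' hW'.le (f ⁻¹ᵁ U))
    rw [← Scheme.Hom.comp_preimage f' g, ← Scheme.Hom.comp_preimage g' f, h.w]
  have key : ∀ m : Γ(F, A), resθ g (thetaW h F hW'.le) hVU m = r m := fun m =>
    (congrArg (res (pullF (g' := g') F) (image_mono W' (f'.preimage_mono hVU))) (thetaW_app h F hW'.le U m e0)).trans
      (res_res _ _ _ _)
  letI : Module Γ(S, U) Γ(F, A) :=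
    (inferInstance : Module Γ(S, U) Γ((Scheme.Modules.pushforward f).obj ((CechOX.pushRestr W).obj F), U))
  letI : Module Γ(S', V) Γ(pullF (g' := g') F, B) :=
    (inferInstance : Module Γ(S', V)
      Γ((Scheme.Modules.pushforward f').obj ((CechOX.pushRestr W').obj (pullF (g' := g') F)), V))
  obtain ⟨G, hG, hGu⟩ := W7AffBC.existsUnique_of_isPushout H (M := Γ(F, A))
    (hM := fun x m => congrArg (fun c => c • m) (appLE_pushRestr f W U x))
    (N := Γ(pullF (g' := g') F, B))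
    (hN := fun x n => congrArg (fun c => c • n) (appLE_pushRestr f' W' V x))
    r (fun Q' _ _ w' => hbc Q' w') (fun c m => map_smulₛₗ _ c m) Q w
  exact ⟨G, fun m => (congrArg G (key m)).trans (hG m), fun G' hG' => hGu G' fun m => (congrArg G' (key m)).symm.trans (hG' m)⟩

end Main

section General

variable {X S : Scheme.{u}} (f : X ⟶ S) (F : X.Modules) {ι : Type u} [Finite ι] (𝒰 : ι → X.Opens)

theorem isQCoh_pushRestr' (hF : Coh.IsQCoh F) (W : X.Opens) [IsAffineHom W.ι] :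
    Coh.IsQCoh ((CechOX.pushRestr W).obj F) := by
  haveI : ((Scheme.Modules.restrictFunctor W.ι).obj F).IsQuasicoherent := QC.isQCoh_restrict W.ι hF
  exact QC.isQCoh_pushforward W.ι (M := (Scheme.Modules.restrictFunctor W.ι).obj F)

theorem isQCoh_push_pushRestr (hF : Coh.IsQCoh F) (W : X.Opens) [IsAffineHom W.ι] [IsAffineHom (W.ι ≫ f)] :
    Coh.IsQCoh ((Scheme.Modules.pushforward f).obj ((CechOX.pushRestr W).obj F)) := by
  haveI : ((Scheme.Modules.restrictFunctor W.ι).obj F).IsQuasicoherent := QC.isQCoh_restrict W.ι hF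
  exact QC.isQCoh_of_iso ((Scheme.Modules.pushforwardComp W.ι f).app _).symm
    (QC.isQCoh_pushforward (W.ι ≫ f) (M := (Scheme.Modules.restrictFunctor W.ι).obj F))

theorem isZero_rpush_pushRestr' (hF : Coh.IsQCoh F) (W : X.Opens) [IsAffineHom W.ι] [IsAffineHom (W.ι ≫ f)]
    {i : ℕ} (hi : 0 < i) [HasInjectiveResolutions X.Modules] :
    IsZero ((Coh.Rpush f i).obj ((CechOX.pushRestr W).obj F)) := by
  let G := (Scheme.Modules.restrictFunctor W.ι).obj F
  haveI : G.IsQuasicoherent := QC.isQCoh_restrict W.ι hF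
  obtain ⟨q, rfl⟩ : ∃ q, i = q + 1 := ⟨i - 1, by omega⟩
  obtain ⟨e⟩ := CohQC.toAb_rpush_iso f ((CechOX.pushRestr W).obj F) (q + 1)
  refine CohQC.isZero_of_isZero_toAb
    ((SiteCoh.isZero_rpush_of_locKilled (K := _) (u := Opens.map f.base) ?_).of_iso e)
  exact CohQC.locKilled_of_basis f.base _ (q + 1) {T | IsAffineOpen (X := S) T}
    (fun V y hy => CohQC.exists_affine_le V y hy)
    fun T hT => CohQC.hu_push_vanish W.ι G (f ⁻¹ᵁ T) (hT.preimage (W.ι ≫ f)) q

/-- all intersections are affine over `X` and over `S` -/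
structure AffCover : Prop where
  ι_affine : ∀ (n : ℕ) (a : Fin (n + 1) → ι), IsAffineHom (∏ᶜ (𝒰 ∘ a) : X.Opens).ι
  comp_affine : ∀ (n : ℕ) (a : Fin (n + 1) → ι), IsAffineHom ((∏ᶜ (𝒰 ∘ a) : X.Opens).ι ≫ f)

theorem nonempty_relCech_iso_Rpush' [DCoh.HasRpush f] (hA : AffCover f 𝒰) (hF : Coh.IsQCoh F)
    (hcov : ⨆ i, 𝒰 i = ⊤) :
    Nonempty (DCoh.toD S (CechOX.relCechZ 𝒰 f F) ≅ (DCoh.Rpush f).obj (DCoh.inD X F)) := by
  haveI := DQPush.hasInj X
  haveI := quasiIso_augHom F 𝒰 hcov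
  let K : CochainComplex X.Modules ℤ := CechOX.cechShZ 𝒰 F
  haveI : QuasiIso (HomologicalComplex.extendMap (augHom F 𝒰) ComplexShape.embeddingUpNat) :=
    (HomologicalComplex.quasiIso_extendMap_iff _ _).2 ‹_›
  let e₁ : DCoh.inD X F ≅ DerivedCategory.Q.obj K :=
    DerivedCategory.Q.mapIso (HomologicalComplex.extendSingleIso ComplexShape.embeddingUpNat F 0 0 rfl).symm ≪≫
    asIso (DerivedCategory.Q.map (HomologicalComplex.extendMap (augHom F 𝒰) ComplexShape.embeddingUpNat))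
  haveI : K.IsStrictlyGE 0 := inferInstance
  have hac : ∀ (p i : ℕ), 0 < i → IsZero ((Coh.Rpush f i).obj (((CechOX.cechSh 𝒰).obj F).X p)) := fun p i hi =>
    isZero_map_pi (Coh.Rpush f i) (fun a : Fin (p + 1) → ι => (CechOX.pushRestr (∏ᶜ (𝒰 ∘ a))).obj F) fun a => by
      haveI := hA.ι_affine p a
      haveI := hA.comp_affine p a
      exact isZero_rpush_pushRestr' f F hF _ hi
  haveI : IsIso ((DQPush.unitQ f).app K) := DQPush.isIso_unitQ_of_bdd f K 0 fun k i hi => by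
    by_cases h : 0 ≤ k
    · obtain ⟨p, rfl⟩ := Int.eq_ofNat_of_zero_le h
      exact (hac p i hi).of_iso ((Coh.Rpush f i).mapIso
        (HomologicalComplex.extendXIso ((CechOX.cechSh 𝒰).obj F) ComplexShape.embeddingUpNat (i := p) rfl))
    · exact Functor.map_isZero _ (K.isZero_of_isStrictlyGE 0 k (not_le.1 h))
  obtain ⟨e₂⟩ := RPushSite.nonempty_mapExtendIso (Scheme.Modules.pushforward f) ComplexShape.embeddingUpNat
    ((CechOX.cechSh 𝒰).obj F)
  exact ⟨DerivedCategory.Q.mapIso e₂.symm ≪≫ asIso ((DQPush.unitQ f).app K) ≪≫ (DCoh.Rpush f).mapIso e₁.symm⟩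

end General

/-- maps into the direct image of a product are determined by components -/
theorem push_pi_ext {X S : Scheme.{u}} (g : X ⟶ S) {κ : Type u} (T : κ → X.Modules) {Z : S.Modules}
    {α β : Z ⟶ (Scheme.Modules.pushforward g).obj (∏ᶜ T)}
    (h : ∀ a, α ≫ (Scheme.Modules.pushforward g).map (Pi.π T a) = β ≫ (Scheme.Modules.pushforward g).map (Pi.π T a)) :
    α = β := by
  haveI := (Scheme.Modules.pullbackPushforwardAdjunction g).rightAdjoint_preservesLimits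
  rw [← cancel_mono (PreservesProduct.iso (Scheme.Modules.pushforward g) T).hom]
  refine Pi.hom_ext _ _ fun a => ?_
  simpa using h a

section Assemble

variable {X S X' S' : Scheme.{u}} {f : X ⟶ S} {g : S' ⟶ S} {g' : X' ⟶ X} {f' : X' ⟶ S'}
  (h : IsPullback g' f' f g) (F : X.Modules) {ι : Type u} (𝒰 : ι → X.Opens)

theorem pullU_eq {n : ℕ} (a : Fin (n + 1) → ι) :
    (∏ᶜ (pullU (g' := g') 𝒰 ∘ a) : X'.Opens) = g' ⁻¹ᵁ (∏ᶜ (𝒰 ∘ a)) :=
  le_antisymm (pullU_le 𝒰 a) (leOfHom (Pi.lift fun k => homOfLE (g'.preimage_mono (leOfHom (Pi.π (𝒰 ∘ a) k)))))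

/-- comparison of Čech complexes of sheaves -/
def cechMap (n : ℕ) : ((CechOX.cechSh 𝒰).obj F).X n ⟶
    (Scheme.Modules.pushforward g').obj (((CechOX.cechSh (pullU (g' := g') 𝒰)).obj (pullF (g' := g') F)).X n) :=
  haveI := (Scheme.Modules.pullbackPushforwardAdjunction g').rightAdjoint_preservesLimits
  Pi.lift (fun a : Fin (n + 1) → ι => Pi.π (term 𝒰 F) a ≫
      pullRestr g' ((Scheme.Modules.pullbackPushforwardAdjunction g').unit.app F) (pullU_le 𝒰 a)) ≫
    (PreservesProduct.iso (Scheme.Modules.pushforward g') (term (pullU (g' := g') 𝒰) (pullF (g' := g') F))).inv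

theorem cechMap_π (n : ℕ) (a : Fin (n + 1) → ι) :
    cechMap (g' := g') F 𝒰 n ≫ (Scheme.Modules.pushforward g').map (Pi.π (term (pullU 𝒰) (pullF F)) a) =
      Pi.π (term 𝒰 F) a ≫ pullRestr g' ((Scheme.Modules.pullbackPushforwardAdjunction g').unit.app F) (pullU_le 𝒰 a) := by
  haveI := (Scheme.Modules.pullbackPushforwardAdjunction g').rightAdjoint_preservesLimits
  have e : (PreservesProduct.iso (Scheme.Modules.pushforward g') (term (pullU (g' := g') 𝒰) (pullF (g' := g') F))).inv ≫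
      (Scheme.Modules.pushforward g').map (Pi.π (term (pullU (g' := g') 𝒰) (pullF (g' := g') F)) a) = Pi.π _ a := by
    rw [Iso.inv_comp_eq, PreservesProduct.iso_hom, piComparison_comp_π]
  rw [cechMap, Category.assoc, e]
  exact Pi.lift_π _ _

theorem cechMap_d (n : ℕ) :
    cechMap (g' := g') F 𝒰 n ≫
        (Scheme.Modules.pushforward g').map (((CechOX.cechSh (pullU 𝒰)).obj (pullF F)).d n (n + 1)) =
      ((CechOX.cechSh 𝒰).obj F).d n (n + 1) ≫ cechMap (g' := g') F 𝒰 (n + 1) := by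
  refine push_pi_ext g' (term (pullU 𝒰) (pullF F)) fun a => ?_
  have e1 := congrArg (fun q => cechMap (g' := g') F 𝒰 n ≫ q)
    (((Scheme.Modules.pushforward g').map_comp _ _).symm.trans
      (congrArg (Scheme.Modules.pushforward g').map (d_π (pullU (g' := g') 𝒰) (pullF (g' := g') F) a)))
  refine (Category.assoc _ _ _).trans (e1.trans ?_)
  refine Eq.trans ?_ ((congrArg (fun q => ((CechOX.cechSh 𝒰).obj F).d n (n + 1) ≫ q)
    (cechMap_π F 𝒰 (n + 1) a).symm).trans (Category.assoc _ _ _).symm)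
  rw [← Category.assoc]
  refine Eq.trans ?_ (congrArg (· ≫ pullRestr g' _ (pullU_le 𝒰 a)) (d_π 𝒰 F a)).symm
  rw [Functor.map_sum, Preadditive.comp_sum, Preadditive.sum_comp]
  refine Finset.sum_congr rfl fun k _ => ?_
  rw [Functor.map_zsmul, Preadditive.comp_zsmul, Preadditive.zsmul_comp, Functor.map_comp]
  congr 1
  rw [← Category.assoc, cechMap_π, Category.assoc, Category.assoc,
    pullRestr_nat g' _ (pullU_le 𝒰 (a ∘ k.succAbove)) (pullU_le 𝒰 a) (le_drop 𝒰 a k)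
      (le_drop (pullU 𝒰) a k)]

/-- one degree of the base change map -/
def bcDeg (n : ℕ) :
    (Scheme.Modules.pullback g).obj ((Scheme.Modules.pushforward f).obj (((CechOX.cechSh 𝒰).obj F).X n)) ⟶
      (Scheme.Modules.pushforward f').obj (((CechOX.cechSh (pullU (g' := g') 𝒰)).obj (pullF (g' := g') F)).X n) :=
  ((Scheme.Modules.pullbackPushforwardAdjunction g).homEquiv _ _).symm
    ((Scheme.Modules.pushforward f).map (cechMap F 𝒰 n) ≫ (sq h).hom.app _)

theorem bcDeg_π (n : ℕ) (a : Fin (n + 1) → ι) :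
    bcDeg h F 𝒰 n ≫ (Scheme.Modules.pushforward f').map (Pi.π (term (pullU 𝒰) (pullF F)) a) =
      (Scheme.Modules.pullback g).map ((Scheme.Modules.pushforward f).map (Pi.π (term 𝒰 F) a)) ≫
        ((Scheme.Modules.pullbackPushforwardAdjunction g).homEquiv _ _).symm (thetaW h F (pullU_le 𝒰 a)) := by
  rw [bcDeg, ← Adjunction.homEquiv_naturality_right_symm, ← Adjunction.homEquiv_naturality_left_symm]
  congr 1
  rw [thetaW, Category.assoc]
  have n1 := (sq h).hom.naturality (Pi.π (term (pullU (g' := g') 𝒰) (pullF (g' := g') F)) a)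
  refine (congrArg (fun q => (Scheme.Modules.pushforward f).map (cechMap F 𝒰 n) ≫ q) n1.symm).trans ?_
  rw [← Category.assoc, ← Category.assoc]
  congr 1
  exact (((Scheme.Modules.pushforward f).map_comp _ _).symm.trans
    (congrArg (Scheme.Modules.pushforward f).map (cechMap_π F 𝒰 n a))).trans
      ((Scheme.Modules.pushforward f).map_comp _ _)

theorem bcDeg_d (n : ℕ) :
    bcDeg h F 𝒰 n ≫
        (Scheme.Modules.pushforward f').map (((CechOX.cechSh (pullU 𝒰)).obj (pullF F)).d n (n + 1)) =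
      (Scheme.Modules.pullback g).map ((Scheme.Modules.pushforward f).map (((CechOX.cechSh 𝒰).obj F).d n (n + 1))) ≫
        bcDeg h F 𝒰 (n + 1) := by
  rw [bcDeg, bcDeg, ← Adjunction.homEquiv_naturality_right_symm, ← Adjunction.homEquiv_naturality_left_symm]
  congr 1
  rw [Category.assoc]
  have n1 := (sq h).hom.naturality (((CechOX.cechSh (pullU (g' := g') 𝒰)).obj (pullF (g' := g') F)).d n (n + 1))
  refine (congrArg (fun q => (Scheme.Modules.pushforward f).map (cechMap F 𝒰 n) ≫ q) n1.symm).trans ?_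
  rw [← Category.assoc, ← Category.assoc]
  congr 1
  exact (((Scheme.Modules.pushforward f).map_comp _ _).symm.trans
    (congrArg (Scheme.Modules.pushforward f).map (cechMap_d F 𝒰 n))).trans
      ((Scheme.Modules.pushforward f).map_comp _ _)

include h in
theorem affCover_pull (hA : AffCover f 𝒰) : AffCover f' (pullU (g' := g') 𝒰) := by
  constructor
  · intro n a
    haveI := hA.ι_affine n a
    rw [pullU_eq]
    exact MorphismProperty.of_isPullback (isPullback_morphismRestrict g' (∏ᶜ (𝒰 ∘ a))) ‹_›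
  · intro n a
    haveI := hA.comp_affine n a
    rw [pullU_eq]
    exact MorphismProperty.of_isPullback ((isPullback_morphismRestrict g' (∏ᶜ (𝒰 ∘ a))).flip.paste_horiz h.flip).flip ‹_›

include h in
theorem nonempty_pullback_relCech_iso [Finite ι] [(Scheme.Modules.pullback g).Additive] (hA : AffCover f 𝒰)
    (hF : Coh.IsQCoh F) :
    Nonempty (((Scheme.Modules.pullback g).mapHomologicalComplex (ComplexShape.up ℕ)).obj
        ((CechOX.relCech 𝒰 f).obj F) ≅
      (CechOX.relCech (pullU (g' := g') 𝒰) f').obj (pullF (g' := g') F)) := by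
  have hiso : ∀ n, IsIso (bcDeg h F 𝒰 n) := fun n => by
    haveI : ∀ a : Fin (n + 1) → ι, IsIso
        (((Scheme.Modules.pullbackPushforwardAdjunction g).homEquiv _ _).symm
          (thetaW h F (pullU_le (g' := g') 𝒰 a))) := fun a => by
      haveI := hA.ι_affine n a
      haveI := hA.comp_affine n a
      haveI := (affCover_pull h 𝒰 hA).ι_affine n a
      haveI := (affCover_pull h 𝒰 hA).comp_affine n a
      exact isIso_thetaW h F hF _ (isQCoh_push_pushRestr f F hF _) (pullU_eq 𝒰 a)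
        (isQCoh_push_pushRestr f' _ (QC.isQCoh_pullback g' hF) _)
    exact isIso_of_pi (Scheme.Modules.pushforward f ⋙ Scheme.Modules.pullback g) (Scheme.Modules.pushforward f')
      (term 𝒰 F) (term (pullU 𝒰) (pullF F)) (bcDeg h F 𝒰 n)
      (fun a : Fin (n + 1) → ι => ((Scheme.Modules.pullbackPushforwardAdjunction g).homEquiv _ _).symm
          (thetaW h F (pullU_le (g' := g') 𝒰 a))) (bcDeg_π h F 𝒰 n)
  exact ⟨HomologicalComplex.Hom.isoOfComponents (fun n => @asIso _ _ _ _ (bcDeg h F 𝒰 n) (hiso n))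
    (fun i j (hij : i + 1 = j) => by subst hij; exact bcDeg_d h F 𝒰 i)⟩

end Assemble

end Groth.Agent.CechShRes
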