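import Groth.Agent.CechShRes.Main
import Groth.Agent.DQPush.Acyclic
import Groth.Agent.RPushSite.SingleHomology
import Groth.Agent.CohQC.Push
import Groth.Prelude.Def_DCoh2

/-!
The relative Čech complex of a finite affine cover computes the derived direct image.
-/

set_option autoImplicit false
set_option backward.isDefEq.respectTransparency false
set_option backward.isDefEq.respectTransparency.types false
set_option linter.style.haveILetI false

universe u

open CategoryTheory CategoryTheory.Limits AlgebraicGeometry Opposite TopologicalSpace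

attribute [local instance] HasDerivedCategory.standard Abelian.hasFiniteBiproducts

noncomputable section

namespace Groth.Agent.CechShRes

variable {X S : Scheme.{u}}

theorem isAffineOpen_piObj [IsAffineHom (pullback.diagonal (terminal.from X))] {κ : Type} [Finite κ] [Nonempty κ]
    (U : κ → X.Opens) (hU : ∀ i, IsAffineOpen (U i)) : IsAffineOpen (∏ᶜ U) := by
  have h : (∏ᶜ U) = ⨅ k, U k :=
    le_antisymm (le_iInf fun k => leOfHom (Pi.π U k)) (leOfHom (Pi.lift fun k => homOfLE (iInf_le U k)))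
  rw [h]
  exact IsAffineOpen.iInf hU

/-- morphisms from affine opens to a scheme with affine diagonal are affine -/
theorem isAffineHom_comp [IsAffineHom (pullback.diagonal (terminal.from S))] (f : X ⟶ S) (W : X.Opens)
    (hW : IsAffineOpen W) : IsAffineHom (W.ι ≫ f) := by
  haveI : IsAffine W.toScheme := hW
  haveI : IsAffine (⊤_ Scheme.{u}) := inferInstance
  haveI : MorphismProperty.HasOfPostcompProperty (@IsAffineHom.{u}) (MorphismProperty.diagonal @IsAffineHom.{u}) :=
    MorphismProperty.hasOfPostcompProperty_iff_le_diagonal.mpr le_rfl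
  exact MorphismProperty.of_postcomp (W := @IsAffineHom.{u}) (W' := MorphismProperty.diagonal @IsAffineHom.{u})
    (W.ι ≫ f) (terminal.from S) ‹IsAffineHom (pullback.diagonal (terminal.from S))›
    (inferInstance : IsAffineHom ((W.ι ≫ f) ≫ terminal.from S))

variable [IsAffineHom (pullback.diagonal (terminal.from X))] [IsAffineHom (pullback.diagonal (terminal.from S))]
  (f : X ⟶ S) (F : X.Modules)

theorem isQCoh_pushRestr (hF : Coh.IsQCoh F) (W : X.Opens) (hW : IsAffineOpen W) :
    Coh.IsQCoh ((CechOX.pushRestr W).obj F) := by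
  haveI : IsAffineHom W.ι := by simpa using isAffineHom_comp (𝟙 X) W hW
  haveI : ((Scheme.Modules.restrictFunctor W.ι).obj F).IsQuasicoherent := QC.isQCoh_restrict W.ι hF
  exact QC.isQCoh_pushforward W.ι (M := (Scheme.Modules.restrictFunctor W.ι).obj F)

theorem isZero_rpush_pushRestr (hF : Coh.IsQCoh F) (W : X.Opens) (hW : IsAffineOpen W) {i : ℕ} (hi : 0 < i)
    [HasInjectiveResolutions X.Modules] : IsZero ((Coh.Rpush f i).obj ((CechOX.pushRestr W).obj F)) := by
  haveI : IsAffineHom W.ι := by simpa using isAffineHom_comp (𝟙 X) W hW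
  haveI := isAffineHom_comp f W hW
  let G := (Scheme.Modules.restrictFunctor W.ι).obj F
  haveI : G.IsQuasicoherent := QC.isQCoh_restrict W.ι hF
  obtain ⟨q, rfl⟩ : ∃ q, i = q + 1 := ⟨i - 1, by omega⟩
  obtain ⟨e⟩ := CohQC.toAb_rpush_iso f ((CechOX.pushRestr W).obj F) (q + 1)
  refine CohQC.isZero_of_isZero_toAb ((SiteCoh.isZero_rpush_of_locKilled (K := _) (u := Opens.map f.base) ?_).of_iso e)
  exact CohQC.locKilled_of_basis f.base _ (q + 1) {T | IsAffineOpen (X := S) T}
    (fun V y hy => CohQC.exists_affine_le V y hy)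
    fun T hT => CohQC.hu_push_vanish W.ι G (f ⁻¹ᵁ T) (hT.preimage (W.ι ≫ f)) q

omit [IsAffineHom (pullback.diagonal (terminal.from X))] [IsAffineHom (pullback.diagonal (terminal.from S))] in
theorem isQCoh_pi {κ : Type u} [Finite κ] (T : κ → X.Modules) (h : ∀ a, Coh.IsQCoh (T a)) : Coh.IsQCoh (∏ᶜ T) :=
  QC.isQCoh_of_iso ((biproduct.isoCoproduct T).symm ≪≫ biproduct.isoProduct T)
    (QC.isQCoh_colimit (Discrete.functor T) fun j => h j.as)

omit [IsAffineHom (pullback.diagonal (terminal.from X))] [IsAffineHom (pullback.diagonal (terminal.from S))] in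
theorem isZero_map_pi {D : Type*} [Category D] [Preadditive D] [HasFiniteBiproducts D] (G : X.Modules ⥤ D) [G.Additive]
    {κ : Type u} [Finite κ] (T : κ → X.Modules) (h : ∀ a, IsZero (G.obj (T a))) : IsZero (G.obj (∏ᶜ T)) := by
  haveI := Fintype.ofFinite κ
  refine (IsZero.iff_id_eq_zero _).2 ?_
  have key : 𝟙 (∏ᶜ T) = ∑ a, Pi.π T a ≫ biproduct.ι T a ≫ (biproduct.isoProduct T).hom := by
    refine Pi.hom_ext _ _ fun b => ?_
    classical
    rw [Preadditive.sum_comp, Category.id_comp, Finset.sum_eq_single b]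
    · simp [biproduct.isoProduct_hom]
    · intro a _ hab
      simp [biproduct.isoProduct_hom, biproduct.ι_π_ne _ hab]
    · intro hb
      exact absurd (Finset.mem_univ b) hb
  rw [← G.map_id, key, G.map_sum]
  exact Finset.sum_eq_zero fun a _ => by
    rw [G.map_comp, (h a).eq_of_tgt (G.map (Pi.π T a)) 0, zero_comp]

variable {ι : Type u} [Finite ι] (𝒰 : ι → X.Opens) (h𝒰 : ∀ i, IsAffineOpen (𝒰 i))

include h𝒰 in
theorem isQCoh_cechSh (hF : Coh.IsQCoh F) (p : ℕ) : Coh.IsQCoh (((CechOX.cechSh 𝒰).obj F).X p) :=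
  isQCoh_pi (fun a : Fin (p + 1) → ι => (CechOX.pushRestr (∏ᶜ (𝒰 ∘ a))).obj F) fun a =>
    isQCoh_pushRestr F hF _ (by
      have h : ∀ k, IsAffineOpen ((𝒰 ∘ a) k) := fun k => h𝒰 (a k)
      exact isAffineOpen_piObj (𝒰 ∘ a) h)

include h𝒰 in
theorem isZero_rpush_cechSh [HasInjectiveResolutions X.Modules] (hF : Coh.IsQCoh F) (p : ℕ) {i : ℕ} (hi : 0 < i) :
    IsZero ((Coh.Rpush f i).obj (((CechOX.cechSh 𝒰).obj F).X p)) :=
  isZero_map_pi (Coh.Rpush f i) (fun a : Fin (p + 1) → ι => (CechOX.pushRestr (∏ᶜ (𝒰 ∘ a))).obj F) fun a =>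
    isZero_rpush_pushRestr f F hF _ (by
      have h : ∀ k, IsAffineOpen ((𝒰 ∘ a) k) := fun k => h𝒰 (a k)
      exact isAffineOpen_piObj (𝒰 ∘ a) h) hi

include h𝒰 in
theorem isQCoh_relCech [CompactSpace X] (hF : Coh.IsQCoh F) (p : ℕ) :
    Coh.IsQCoh (((CechOX.relCech 𝒰 f).obj F).X p) := by
  haveI : QuasiSeparated (terminal.from S) := ⟨inferInstance⟩
  haveI : QuasiSeparated (terminal.from X) := ⟨inferInstance⟩
  haveI : QuasiCompact (f ≫ terminal.from S) := by rw [terminal.comp_from]; infer_instance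
  haveI : QuasiSeparated (f ≫ terminal.from S) := by rw [terminal.comp_from]; infer_instance
  haveI : QuasiCompact f := QuasiCompact.of_comp f (terminal.from S)
  haveI : QuasiSeparated f := QuasiSeparated.of_comp f (terminal.from S)
  haveI : (((CechOX.cechSh 𝒰).obj F).X p).IsQuasicoherent := isQCoh_cechSh F 𝒰 h𝒰 hF p
  exact QC.isQCoh_pushforward f (M := ((CechOX.cechSh 𝒰).obj F).X p)

/-- the coaugmentation as a map of complexes -/
def augHom : (CochainComplex.single₀ X.Modules).obj F ⟶ (CechOX.cechSh 𝒰).obj F :=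
  (CochainComplex.fromSingle₀Equiv _ _).symm ⟨CechOX.cechShAug 𝒰 F, aug_d 𝒰 F⟩

omit [IsAffineHom (pullback.diagonal (terminal.from X))] [Finite ι] in
theorem quasiIso_augHom (hcov : ⨆ i, 𝒰 i = ⊤) : QuasiIso (augHom F 𝒰) := by
  refine ⟨fun n => ?_⟩
  cases n with
  | zero =>
    rw [CochainComplex.quasiIsoAt₀_iff, ShortComplex.quasiIso_iff_of_zeros]
    · refine (ShortComplex.exact_and_mono_f_iff_of_iso ?_).2 ⟨exact_zero 𝒰 F hcov, mono_aug 𝒰 F hcov⟩
      exact ShortComplex.isoMk (Iso.refl _) (Iso.refl _) (Iso.refl _) (by simp [augHom]) (by simp)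
    all_goals rfl
  | succ n =>
    rw [quasiIsoAt_iff_exactAt]
    · exact exact_succ 𝒰 F hcov n
    · exact CochainComplex.exactAt_succ_single_obj _ _

include h𝒰 in
theorem nonempty_relCech_iso_Rpush [DCoh.HasRpush f] (hF : Coh.IsQCoh F) (hcov : ⨆ i, 𝒰 i = ⊤) :
    Nonempty (DCoh.toD S (CechOX.relCechZ 𝒰 f F) ≅ (DCoh.Rpush f).obj (DCoh.inD X F)) := by
  haveI := DQPush.hasInj X
  haveI := quasiIso_augHom F 𝒰 hcov
  let K : CochainComplex X.Modules ℤ := CechOX.cechShZ 𝒰 F
  haveI : QuasiIso (HomologicalComplex.extendMap (augHom F 𝒰) ComplexShape.embeddingUpNat) :=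
    (HomologicalComplex.quasiIso_extendMap_iff _ _).2 ‹_›
  let e₁ : DCoh.inD X F ≅ DerivedCategory.Q.obj K :=
    DerivedCategory.Q.mapIso (HomologicalComplex.extendSingleIso ComplexShape.embeddingUpNat F 0 0 rfl).symm ≪≫
    asIso (DerivedCategory.Q.map (HomologicalComplex.extendMap (augHom F 𝒰) ComplexShape.embeddingUpNat))
  haveI : K.IsStrictlyGE 0 := inferInstance
  haveI : IsIso ((DQPush.unitQ f).app K) := DQPush.isIso_unitQ_of_bdd f K 0 fun k i hi => by
    by_cases h : 0 ≤ k
    · obtain ⟨p, rfl⟩ := Int.eq_ofNat_of_zero_le h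
      exact (isZero_rpush_cechSh f F 𝒰 h𝒰 hF p hi).of_iso ((Coh.Rpush f i).mapIso
        (HomologicalComplex.extendXIso ((CechOX.cechSh 𝒰).obj F) ComplexShape.embeddingUpNat (i := p) rfl))
    · exact Functor.map_isZero _ (K.isZero_of_isStrictlyGE 0 k (not_le.1 h))
  obtain ⟨e₂⟩ := RPushSite.nonempty_mapExtendIso (Scheme.Modules.pushforward f) ComplexShape.embeddingUpNat
    ((CechOX.cechSh 𝒰).obj F)
  exact ⟨DerivedCategory.Q.mapIso e₂.symm ≪≫ asIso ((DQPush.unitQ f).app K) ≪≫ (DCoh.Rpush f).mapIso e₁.symm⟩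

end Groth.Agent.CechShRes
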