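import Groth.Prelude.Def_CechOX
import Groth.Agent.InvGen.Basic
import Groth.Agent.SiteCoh.Cartan
import Mathlib

/-!
The Čech complex of sheaves of a covering is a resolution.
-/

set_option autoImplicit false
set_option backward.isDefEq.respectTransparency false
set_option linter.style.haveILetI false

universe u

open CategoryTheory CategoryTheory.Limits AlgebraicGeometry Opposite TopologicalSpace
open Groth.Agent.QC (res res_res section_eq_of_locally app_res)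

noncomputable section

namespace Groth.Agent.CechShRes

variable {X : Scheme.{u}}

/-- A sequence is exact if cycles are locally boundaries. -/
theorem exact_of_locally (S : ShortComplex X.Modules)
    (h : ∀ (U : X.Opens) (s : Γ(S.X₂, U)), S.g.app U s = 0 → ∀ x ∈ U,
      ∃ (V : X.Opens) (hV : V ≤ U), x ∈ V ∧ ∃ t, S.f.app V t = res S.X₂ hV s) : S.Exact := by
  rw [S.exact_iff_epi_kernel_lift]
  refine InvGen.epi_of_locally _ fun U t x hx => ?_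
  have ht : S.g.app U ((kernel.ι S.g).app U t) = 0 :=
    congrArg (fun q : kernel S.g ⟶ S.X₃ => q.app U t) (kernel.condition S.g)
  obtain ⟨V, hV, hxV, v, hv⟩ := h U _ ht x hx
  refine ⟨V, hV, hxV, v, Groth.Agent.QC.app_injective_of_mono (kernel.ι S.g) V ?_⟩
  rw [← app_res, ← hv]
  exact congrArg (fun q : S.X₁ ⟶ S.X₂ => q.app V v) (kernel.lift_ι S.g S.f S.zero)

/-- Sections of products. -/
theorem bijective_pi {κ : Type u} (T : κ → X.Modules) (O : X.Opens) :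
    Function.Bijective fun (s : Γ(∏ᶜ T, O)) i => (Pi.π T i).app O s := by
  let G : X.Modules ⥤ Type u := Scheme.Modules.toPresheaf X ⋙
    (CategoryTheory.evaluation _ _).obj (Opposite.op O) ⋙ forget AddCommGrpCat.{u}
  haveI : PreservesLimits ((CategoryTheory.evaluation (Opens X)ᵒᵖ Ab.{u}).obj (Opposite.op O)) :=
    inferInstance
  haveI : PreservesLimits G :=
    @comp_preservesLimits _ _ _ _ _ _ _ _ inferInstance
      (@comp_preservesLimits _ _ _ _ _ _ _ _ ‹_› inferInstance)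
  let h := isLimitFanMkObjOfIsLimit G T (Pi.π T) (productIsProduct T)
  refine ⟨fun s t hst => Concrete.isLimit_ext _ h s t fun j => congrFun hst j.as, fun s => ?_⟩
  obtain ⟨x, hx⟩ := ((Types.isLimit_iff _).1 ⟨h⟩ (fun j => s j.as) (by
    rintro ⟨j⟩ ⟨j'⟩ ⟨⟨e⟩⟩
    obtain rfl : j = j' := e
    simp)).exists
  exact ⟨x, funext fun i => hx ⟨i⟩⟩

variable {ι : Type u} (𝒰 : ι → X.Opens) (F : X.Modules)

/-- The part of `V` in an intersection. -/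
abbrev cut {n : ℕ} (V : X.Opens) (a : Fin (n + 1) → ι) : X.Opens :=
  (∏ᶜ (𝒰 ∘ a)).ι ''ᵁ ((∏ᶜ (𝒰 ∘ a)).ι ⁻¹ᵁ V)

theorem mem_cut {n : ℕ} {V : X.Opens} {a : Fin (n + 1) → ι} {x : X} :
    x ∈ cut 𝒰 V a ↔ x ∈ V ∧ ∀ k, x ∈ 𝒰 (a k) := by
  have e : (∏ᶜ (𝒰 ∘ a)) = ⨅ k, 𝒰 (a k) := SiteCoh.tupleProd_eq_iInf 𝒰 a
  rw [cut, Scheme.Hom.image_preimage_eq_opensRange_inf, Scheme.Opens.opensRange_ι, e]
  constructor
  · rintro ⟨h1, h2⟩
    exact ⟨h2, fun k => (iInf_le (fun k => 𝒰 (a k)) k) h1⟩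
  · rintro ⟨h1, h2⟩
    refine ⟨?_, h1⟩
    have : x ∈ ((⨅ k, 𝒰 (a k) : X.Opens) : Set X) := by
      rw [← Finset.inf_univ_eq_iInf, Opens.coe_finset_inf, Finset.inf_set_eq_iInter]
      simpa using h2
    exact this

theorem cut_mono {n : ℕ} {U V : X.Opens} (h : V ≤ U) (a : Fin (n + 1) → ι) : cut 𝒰 V a ≤ cut 𝒰 U a :=
  fun x hx => (mem_cut 𝒰).2 ⟨h ((mem_cut 𝒰).1 hx).1, ((mem_cut 𝒰).1 hx).2⟩

/-- A term of the complex. -/
abbrev term {n : ℕ} (a : Fin (n + 1) → ι) : X.Modules := (CechOX.pushRestr (∏ᶜ (𝒰 ∘ a))).obj F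

/-- A coordinate of a section. -/
def coord {n : ℕ} {V : X.Opens} (x : Γ(((CechOX.cechSh 𝒰).obj F).X n, V)) (a : Fin (n + 1) → ι) :
    Γ(F, cut 𝒰 V a) :=
  (Pi.π (term 𝒰 F) a).app V x

theorem coord_bijective (n : ℕ) (V : X.Opens) :
    Function.Bijective (coord 𝒰 F (n := n) (V := V)) :=
  bijective_pi (term 𝒰 F) V

theorem coord_add {n : ℕ} {V : X.Opens} (x y : Γ(((CechOX.cechSh 𝒰).obj F).X n, V)) (a : Fin (n + 1) → ι) :
    coord 𝒰 F (x + y) a = coord 𝒰 F x a + coord 𝒰 F y a := map_add _ _ _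

theorem coord_zero {n : ℕ} {V : X.Opens} (a : Fin (n + 1) → ι) :
    coord 𝒰 F (0 : Γ(((CechOX.cechSh 𝒰).obj F).X n, V)) a = 0 := map_zero ((Pi.π (term 𝒰 F) a).app V).hom

theorem coord_res {n : ℕ} {U V : X.Opens} (h : V ≤ U) (x : Γ(((CechOX.cechSh 𝒰).obj F).X n, U))
    (a : Fin (n + 1) → ι) :
    coord 𝒰 F (res _ h x) a = res F (CechShRes.cut_mono 𝒰 h a) (coord 𝒰 F x a) :=
  (app_res (Pi.π (term 𝒰 F) a) h x).symm

theorem le_drop {n : ℕ} (a : Fin (n + 2) → ι) (k : Fin (n + 2)) :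
    (∏ᶜ (𝒰 ∘ a) : X.Opens) ≤ ∏ᶜ (𝒰 ∘ (a ∘ k.succAbove)) :=
  leOfHom (Pi.lift fun i => Pi.π (𝒰 ∘ a) (k.succAbove i))

theorem cut_drop {n : ℕ} (V : X.Opens) (a : Fin (n + 2) → ι) (k : Fin (n + 2)) :
    cut 𝒰 V a ≤ cut 𝒰 V (a ∘ k.succAbove) :=
  fun x hx => (mem_cut 𝒰).2 ⟨((mem_cut 𝒰).1 hx).1, fun i => ((mem_cut 𝒰).1 hx).2 _⟩

theorem d_π {n : ℕ} (a : Fin (n + 2) → ι) :
    ((CechOX.cechSh 𝒰).obj F).d n (n + 1) ≫ Pi.π (term 𝒰 F) a =
      ∑ k : Fin (n + 2), (-1 : ℤ) ^ (k : ℕ) •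
        (Pi.π (term 𝒰 F) (a ∘ k.succAbove) ≫ CechOX.pushRestrMapApp (le_drop 𝒰 a k) F) := by
  refine (congr_arg (· ≫ Pi.π (term 𝒰 F) a) (CochainComplex.of_d
    (fun m => ((FormalCoproduct.cosimplicialObjectFunctor (FormalCoproduct.mk _ 𝒰).cech).obj
      (CechOX.pushRestrFam.flip.obj F)).obj (SimplexCategory.mk m))
    (AlgebraicTopology.AlternatingCofaceMapComplex.objD _) n)).trans ?_
  refine (Preadditive.sum_comp _ _ _).trans (Finset.sum_congr rfl fun k _ => ?_)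
  refine (Preadditive.zsmul_comp _ _ _).trans (congr_arg _ ?_)
  exact Pi.lift_π _ _

theorem app_sum_zsmul {M N : X.Modules} {κ : Type*} (s : Finset κ) (c : κ → ℤ) (φ : κ → (M ⟶ N)) (V : X.Opens)
    (x : Γ(M, V)) : (∑ k ∈ s, c k • φ k).app V x = ∑ k ∈ s, c k • (φ k).app V x := by
  let ev : (M ⟶ N) →+ Γ(N, V) := AddMonoidHom.mk' (fun f => f.app V x) fun _ _ => rfl
  exact (map_sum ev _ _).trans (Finset.sum_congr rfl fun k _ => map_zsmul ev _ _)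

theorem coord_d {n : ℕ} {V : X.Opens} (x : Γ(((CechOX.cechSh 𝒰).obj F).X n, V)) (a : Fin (n + 2) → ι) :
    coord 𝒰 F ((((CechOX.cechSh 𝒰).obj F).d n (n + 1)).app V x) a =
      ∑ k : Fin (n + 2), (-1 : ℤ) ^ (k : ℕ) • res F (cut_drop 𝒰 V a k) (coord 𝒰 F x (a ∘ k.succAbove)) :=
  (congrArg (fun q : ((CechOX.cechSh 𝒰).obj F).X n ⟶ term 𝒰 F a => q.app V x) (d_π 𝒰 F a)).trans
    (app_sum_zsmul _ _ _ _ _)

theorem coord_aug {V : X.Opens} (s : Γ(F, V)) (a : Fin 1 → ι) :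
    coord 𝒰 F ((CechOX.cechShAug 𝒰 F).app V s) a = res F (fun x hx => ((mem_cut 𝒰).1 hx).1) s :=
  congrArg (fun q : F ⟶ term 𝒰 F a => q.app V s) (Pi.lift_π (fun i : Fin 1 → ι =>
    (Scheme.Modules.restrictAdjunction (∏ᶜ (𝒰 ∘ i)).ι).unit.app F) a)

theorem res_coord_congr {n : ℕ} {V W : X.Opens} (x : Γ(((CechOX.cechSh 𝒰).obj F).X n, V)) {a b : Fin (n + 1) → ι}
    (hab : a = b) (ha : W ≤ cut 𝒰 V a) (hb : W ≤ cut 𝒰 V b) :
    res F ha (coord 𝒰 F x a) = res F hb (coord 𝒰 F x b) := by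
  subst hab; rfl

theorem cut_cons {n : ℕ} {V : X.Opens} {i₀ : ι} (hV : V ≤ 𝒰 i₀) (b : Fin (n + 1) → ι) :
    cut 𝒰 V b ≤ cut 𝒰 V (Fin.cons i₀ b : Fin (n + 2) → ι) := fun x hx => by
  refine (mem_cut 𝒰).2 ⟨((mem_cut 𝒰).1 hx).1, fun k => ?_⟩
  induction k using Fin.cases with
  | zero => simpa using hV ((mem_cut 𝒰).1 hx).1
  | succ i => simpa using ((mem_cut 𝒰).1 hx).2 i

/-- The cocycle condition solved for one coordinate. -/
theorem cocycle_eq {n : ℕ} {V : X.Opens} {i₀ : ι} (hV : V ≤ 𝒰 i₀) (x : Γ(((CechOX.cechSh 𝒰).obj F).X n, V))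
    (hx : (((CechOX.cechSh 𝒰).obj F).d n (n + 1)).app V x = 0) (a : Fin (n + 1) → ι) :
    coord 𝒰 F x a = ∑ k : Fin (n + 1), (-1 : ℤ) ^ (k : ℕ) •
      res F ((cut_cons 𝒰 hV a).trans (cut_drop 𝒰 V (Fin.cons i₀ a) k.succ))
        (coord 𝒰 F x ((Fin.cons i₀ a : Fin (n + 2) → ι) ∘ k.succ.succAbove)) := by
  have h := congrArg (res F (cut_cons 𝒰 hV a))
    ((coord_d 𝒰 F x (Fin.cons i₀ a)).symm.trans ((congrArg (coord 𝒰 F · (Fin.cons i₀ a)) hx).trans (coord_zero 𝒰 F _)))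
  rw [map_zero, map_sum, Fin.sum_univ_succ] at h
  simp only [map_zsmul, map_neg, res_res, Fin.val_zero, pow_zero, one_zsmul, Fin.val_succ, pow_succ, mul_neg, mul_one,
    neg_smul, Finset.sum_neg_distrib] at h
  rw [res_coord_congr 𝒰 F x (b := a) (funext fun i => by simp) _ le_rfl, Groth.Agent.QC.res_self,
    ← sub_eq_add_neg, sub_eq_zero] at h
  exact h

/-- The coaugmented complex is exact in degree zero below a member of the covering. -/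
theorem exists_of_cocycle_zero {V : X.Opens} {i₀ : ι} (hV : V ≤ 𝒰 i₀)
    (x : Γ(((CechOX.cechSh 𝒰).obj F).X 0, V)) (hx : (((CechOX.cechSh 𝒰).obj F).d 0 1).app V x = 0) :
    ∃ s, (CechOX.cechShAug 𝒰 F).app V s = x := by
  have hle : V ≤ cut 𝒰 V (fun _ : Fin 1 => i₀) := fun y hy => (mem_cut 𝒰).2 ⟨hy, fun _ => hV hy⟩
  refine ⟨res F hle (coord 𝒰 F x fun _ => i₀), (coord_bijective 𝒰 F 0 V).1 (funext fun a => ?_)⟩
  rw [coord_aug, res_res, cocycle_eq 𝒰 F hV x hx a, Fin.sum_univ_one]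
  simp only [Fin.val_zero, pow_zero, one_zsmul]
  exact res_coord_congr 𝒰 F x (funext fun i => by fin_cases i; simp) _ _

/-- Cocycles of positive degree are coboundaries below a member of the covering. -/
theorem exists_of_cocycle_succ {n : ℕ} {V : X.Opens} {i₀ : ι} (hV : V ≤ 𝒰 i₀)
    (x : Γ(((CechOX.cechSh 𝒰).obj F).X (n + 1), V))
    (hx : (((CechOX.cechSh 𝒰).obj F).d (n + 1) (n + 1 + 1)).app V x = 0) :
    ∃ y, (((CechOX.cechSh 𝒰).obj F).d n (n + 1)).app V y = x := by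
  obtain ⟨y, hy⟩ := (coord_bijective 𝒰 F n V).2 fun b =>
    res F (cut_cons 𝒰 hV b) (coord 𝒰 F x (Fin.cons i₀ b))
  refine ⟨y, (coord_bijective 𝒰 F (n + 1) V).1 (funext fun a => ?_)⟩
  rw [coord_d, cocycle_eq 𝒰 F hV x hx a]
  refine Finset.sum_congr rfl fun k _ => congrArg _ ?_
  rw [congrFun hy (a ∘ k.succAbove), res_res]
  refine res_coord_congr 𝒰 F x (funext fun i => ?_) _ _
  induction i using Fin.cases with
  | zero => simp
  | succ i => simp [Fin.succ_succAbove_succ]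

theorem aug_d : CechOX.cechShAug 𝒰 F ≫ ((CechOX.cechSh 𝒰).obj F).d 0 1 = 0 := by
  refine Scheme.Modules.hom_ext _ _ fun V => ?_
  ext s
  refine (coord_bijective 𝒰 F 1 V).1 (funext fun a => ?_)
  show coord 𝒰 F ((((CechOX.cechSh 𝒰).obj F).d 0 1).app V ((CechOX.cechShAug 𝒰 F).app V s)) a =
    coord 𝒰 F (0 : Γ(((CechOX.cechSh 𝒰).obj F).X 1, V)) a
  rw [coord_d, coord_zero, Fin.sum_univ_two]
  simp only [coord_aug, res_res, Fin.val_zero, Fin.val_one, pow_zero, pow_one, one_zsmul, neg_smul]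
  exact add_neg_cancel _

theorem exists_mem (h𝒰 : ⨆ i, 𝒰 i = ⊤) (x : X) : ∃ i, x ∈ 𝒰 i :=
  Opens.mem_iSup.1 (h𝒰.symm ▸ (trivial : x ∈ (⊤ : X.Opens)))

theorem mono_aug (h𝒰 : ⨆ i, 𝒰 i = ⊤) : Mono (CechOX.cechShAug 𝒰 F) := by
  refine (Groth.Agent.QC.mono_iff_app_injective _).mpr fun U s t hst => section_eq_of_locally fun x hx => ?_
  obtain ⟨i, hi⟩ := exists_mem 𝒰 h𝒰 x
  refine ⟨cut 𝒰 U (fun _ : Fin 1 => i), fun y hy => ((mem_cut 𝒰).1 hy).1, (mem_cut 𝒰).2 ⟨hx, fun _ => hi⟩, ?_⟩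
  rw [← coord_aug, ← coord_aug, hst]

theorem exact_zero (h𝒰 : ⨆ i, 𝒰 i = ⊤) : (ShortComplex.mk _ _ (aug_d 𝒰 F)).Exact := by
  refine exact_of_locally _ fun U s hs x hx => ?_
  obtain ⟨i, hi⟩ := exists_mem 𝒰 h𝒰 x
  refine ⟨U ⊓ 𝒰 i, inf_le_left, ⟨hx, hi⟩, exists_of_cocycle_zero 𝒰 F inf_le_right _ ?_⟩
  rw [← app_res]
  exact (congrArg (res _ inf_le_left) hs).trans (map_zero _)

theorem exact_succ (h𝒰 : ⨆ i, 𝒰 i = ⊤) (p : ℕ) : ((CechOX.cechSh 𝒰).obj F).ExactAt (p + 1) := by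
  rw [HomologicalComplex.exactAt_iff' _ p (p + 1) (p + 1 + 1) (by simp) (by simp)]
  refine exact_of_locally _ fun U s hs x hx => ?_
  obtain ⟨i, hi⟩ := exists_mem 𝒰 h𝒰 x
  refine ⟨U ⊓ 𝒰 i, inf_le_left, ⟨hx, hi⟩, exists_of_cocycle_succ 𝒰 F inf_le_right _ ?_⟩
  exact (app_res _ _ _).symm.trans ((congrArg (res _ inf_le_left) hs).trans (map_zero _))

theorem existsUnique_lift (h𝒰 : ⨆ i, 𝒰 i = ⊤) (G : X.Modules) (g : G ⟶ ((CechOX.cechSh 𝒰).obj F).X 0)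
    (hg : g ≫ ((CechOX.cechSh 𝒰).obj F).d 0 1 = 0) : ∃! g' : G ⟶ F, g' ≫ CechOX.cechShAug 𝒰 F = g := by
  haveI := mono_aug 𝒰 F h𝒰
  obtain ⟨l, hl⟩ := KernelFork.IsLimit.lift' (exact_zero 𝒰 F h𝒰).fIsKernel g hg
  exact ⟨l, hl, fun y hy => (cancel_mono _).1 (hy.trans hl.symm)⟩

end Groth.Agent.CechShRes
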